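import Groth.Agent.MoriLib.Krull
import Groth.Agent.NormalLib.Serre

/-! Discrete valuation rings of height one primes, restricted to subfields. -/

set_option autoImplicit false
universe u v

noncomputable section

namespace MoriLib

/-- Localisations of Noetherian normal domains at height one primes are discrete valuation rings. -/
theorem isDVR_localization {R : Type u} [CommRing R] [IsDomain R] [IsNoetherianRing R] [IsIntegrallyClosed R]
    (P : Ideal R) [P.IsPrime] (hP : P.height = 1) : IsDiscreteValuationRing (Localization.AtPrime P) := by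
  let RP := Localization.AtPrime P
  have : IsDomain RP := IsLocalization.isDomain_localization P.primeCompl_le_nonZeroDivisors
  have hic : IsIntegrallyClosed RP := isIntegrallyClosed_of_isLocalization RP P.primeCompl P.primeCompl_le_nonZeroDivisors
  obtain ⟨a, ha, ha0⟩ := Submodule.exists_mem_ne_zero_of_ne_bot (Ideal.ne_bot_of_height_eq_one hP)
  have hn : RingHom.ker (algebraMap R RP) = ⊥ :=
    (RingHom.injective_iff_ker_eq_bot _).1 (IsLocalization.injective RP P.primeCompl_le_nonZeroDivisors)
  have haM : algebraMap R RP a ∈ IsLocalRing.maximalIdeal RP :=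
    (IsLocalization.AtPrime.to_map_mem_maximal_iff RP P a).2 ha
  have ha0' : algebraMap R RP a ≠ 0 := by
    simpa using (IsLocalization.injective RP P.primeCompl_le_nonZeroDivisors).ne ha0
  refine NormalLib.isDVR_of_maximalIdeal_mem_associatedPrimes ha0' ?_
  obtain ⟨Q, hQ⟩ : (associatedPrimes RP (RP ⧸ Ideal.span {algebraMap R RP a})).Nonempty := by
    have : Nontrivial (RP ⧸ Ideal.span {algebraMap R RP a}) := Ideal.Quotient.nontrivial_iff.2 fun h =>
      (IsLocalRing.maximalIdeal.isMaximal RP).ne_top (top_unique (h ▸ (Ideal.span_singleton_le_iff_mem _).2 haM))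
    exact associatedPrimes.nonempty RP _
  have hQp := hQ.isPrime
  have hQh := NormalLib.height_eq_one_of_mem_associatedPrimes ha0' hQ
  suffices Q = IsLocalRing.maximalIdeal RP by rwa [← this]
  by_contra hne
  have hlt : Q < IsLocalRing.maximalIdeal RP := lt_of_le_of_ne (IsLocalRing.le_maximalIdeal hQp.ne_top) hne
  have hh : (IsLocalRing.maximalIdeal RP).height ≤ ((1 : ℕ) : ℕ∞) := by
    rw [← WithBot.coe_le_coe, IsLocalRing.maximalIdeal_height_eq_ringKrullDim,
      IsLocalization.AtPrime.ringKrullDim_eq_height P, hP, Nat.cast_one]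
  have h2 := Ideal.height_le_iff.1 hh Q hQp hlt
  rw [hQh, Nat.cast_one] at h2
  exact lt_irrefl _ h2

variable {K : Type u} {L : Type v} [Field K] [Field L]

/-- The valuation ring of a valuation ring embedded in a field. -/
def rangeValuationSubring {D : Type v} [CommRing D] [IsDomain D] [ValuationRing D] [Algebra D L]
    [IsFractionRing D L] : ValuationSubring L where
  toSubring := (algebraMap D L).range
  mem_or_inv_mem' x := by
    rcases ValuationRing.isInteger_or_isInteger D x with h | h
    · exact Or.inl h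
    · exact Or.inr h

/-- A restriction of a discrete valuation ring to a subfield on which it is not trivial. -/
theorem isDVR_comap (f : K →+* L) (D : Type v) [CommRing D] [IsDomain D] [IsDiscreteValuationRing D] [Algebra D L]
    [IsFractionRing D L] (a : K) (ha0 : a ≠ 0) (ha : f a⁻¹ ∉ Set.range (algebraMap D L)) :
    IsDiscreteValuationRing ((rangeValuationSubring (D := D) (L := L)).comap f) := by
  classical
  let O := (rangeValuationSubring (D := D) (L := L)).comap f
  have hmemO : ∀ x : K, x ∈ O ↔ ∃ d, algebraMap D L d = f x := fun x => Iff.rfl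
  have hinj := IsFractionRing.injective D L
  obtain ⟨π, hπ⟩ := IsDiscreteValuationRing.exists_irreducible D
  have hprin : IsPrincipalIdealRing O := ⟨fun I => by
    by_cases hI : I = ⊥
    · rw [hI]; infer_instance
    obtain ⟨z, hz, hz0⟩ := Submodule.exists_mem_ne_zero_of_ne_bot hI
    let P : ℕ → Prop := fun n => ∃ x ∈ I, ∃ u : Dˣ, algebraMap D L (u * π ^ n) = f x
    have hex : ∃ n, P n := by
      obtain ⟨d, hd⟩ := (hmemO _).1 z.2
      have hd0 : d ≠ 0 := fun e => hz0 (Subtype.ext (f.injective (by rw [← hd, e, map_zero]; exact (map_zero f).symm)))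
      obtain ⟨n, u, rfl⟩ := IsDiscreteValuationRing.eq_unit_mul_pow_irreducible hd0 hπ
      exact ⟨n, z, hz, u, hd⟩
    obtain ⟨x, hx, u, hux⟩ := Nat.find_spec hex
    refine ⟨⟨x, le_antisymm (fun y hy => ?_) ((Submodule.span_singleton_le_iff_mem _ _).2 hx)⟩⟩
    by_cases hy0 : y = 0
    · rw [hy0]; exact zero_mem _
    obtain ⟨d, hd⟩ := (hmemO _).1 y.2
    have hd0 : d ≠ 0 := fun e => hy0 (Subtype.ext (f.injective (by rw [← hd, e, map_zero]; exact (map_zero f).symm)))
    obtain ⟨m, w, rfl⟩ := IsDiscreteValuationRing.eq_unit_mul_pow_irreducible hd0 hπ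
    have hle : Nat.find hex ≤ m := Nat.find_le ⟨y, hy, w, hd⟩
    have hx0 : (x : K) ≠ 0 := fun e => by
      rw [e, map_zero, ← map_zero (algebraMap D L)] at hux
      exact mul_ne_zero u.ne_zero (pow_ne_zero _ hπ.ne_zero) (hinj hux)
    have hq : (y : K) / x ∈ O := (hmemO _).2 ⟨(w * u⁻¹ : Dˣ) * π ^ (m - Nat.find hex), by
      rw [map_div₀, eq_div_iff ((map_ne_zero f).2 hx0), ← hd, ← hux, ← map_mul]
      congr 1
      have : π ^ m = π ^ (m - Nat.find hex) * π ^ Nat.find hex := by rw [← pow_add, Nat.sub_add_cancel hle]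
      rw [this, Units.val_mul]
      calc (w : D) * ↑u⁻¹ * π ^ (m - Nat.find hex) * (↑u * π ^ Nat.find hex)
          = (w : D) * (↑u⁻¹ * ↑u) * (π ^ (m - Nat.find hex) * π ^ Nat.find hex) := by ring
        _ = _ := by rw [Units.inv_mul, mul_one]⟩
    refine Submodule.mem_span_singleton.2 ⟨⟨_, hq⟩, Subtype.ext ?_⟩
    show (y : K) / x * x = y
    field_simp⟩
  have haO : a ∈ O := (O.mem_or_inv_mem a).resolve_right ha
  have hmem : (⟨a, haO⟩ : O) ∈ IsLocalRing.maximalIdeal O := fun hu => by
    obtain ⟨b, hb⟩ := hu.exists_right_inv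
    refine ha ?_
    have hb' : a * (b : K) = 1 := congrArg Subtype.val hb
    rw [← eq_inv_of_mul_eq_one_right hb']
    exact b.2
  exact { __ := hprin, not_a_field' := fun h0 => ha0 (congrArg Subtype.val (show (⟨a, haO⟩ : O) = 0 by
    rw [h0] at hmem; exact hmem)) }

end MoriLib
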