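import Groth.Agent.MoriLib.Main

/-! A finite subalgebra separating the height one primes of the integral closure. -/

set_option autoImplicit false
universe u

noncomputable section

namespace MoriLib

variable (A : Type u) [CommRing A] [IsDomain A] [IsNoetherianRing A] [IsLocalRing A]

local notation "K" => FractionRing A
local notation "B" => integralClosure A (FractionRing A)

theorem exists_separating : ∃ C : Subalgebra A K, Module.Finite A C ∧ C ≤ B ∧
    ∀ P : Ideal B, IsH1 P → ∀ Q : Ideal B, Q.IsPrime →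
      (∀ (b : B), (b : K) ∈ C → (b ∈ Q ↔ b ∈ P)) → Q = P := by
  classical
  let bad := (finite_bad A).toFinset
  have hsep : ∀ P ∈ bad, ∀ Q : Ideal B, Q.IsPrime → Q.comap (algebraMap A B) = P.comap (algebraMap A B) → Q ≠ P →
      ∃ c : B, ¬(c ∈ Q ↔ c ∈ P) := by
    intro P _ Q _ _ hne
    by_contra h
    push Not at h
    exact hne (Ideal.ext h)
  choose! c hc using hsep
  have hover : ∀ P ∈ bad, {Q : Ideal B | Q.IsPrime ∧ Q.comap (algebraMap A B) = P.comap (algebraMap A B)}.Finite :=
    fun P hP => by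
      have := ((finite_bad A).mem_toFinset.1 hP).1.1
      exact finite_over A _
  let s : Set K := ⋃ P ∈ (bad : Set (Ideal B)), (fun Q => (c P Q : K)) ''
    {Q : Ideal B | Q.IsPrime ∧ Q.comap (algebraMap A B) = P.comap (algebraMap A B)}
  have hs : s.Finite := bad.finite_toSet.biUnion fun P hP => (hover P hP).image _
  have hsB : ∀ x ∈ s, IsIntegral A x := by
    intro x hx
    simp only [s, Set.mem_iUnion, Set.mem_image] at hx
    obtain ⟨P, -, Q, -, rfl⟩ := hx
    exact (c P Q).2
  refine ⟨Algebra.adjoin A s, Module.Finite.iff_fg.2 (fg_adjoin_of_finite hs hsB), Algebra.adjoin_le hsB,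
    fun P hP Q hQ hPQ => ?_⟩
  have hA : Q.comap (algebraMap A B) = P.comap (algebraMap A B) :=
    Ideal.ext fun a => hPQ (algebraMap A B a) ((Algebra.adjoin A s).algebraMap_mem a)
  by_contra hne
  have hPb : P ∈ bad := (finite_bad A).mem_toFinset.2 ⟨hP, Q, hQ, hA, hne⟩
  refine hc P hPb Q hQ hA hne (hPQ _ (Algebra.subset_adjoin ?_))
  exact Set.mem_biUnion (Finset.mem_coe.2 hPb) ⟨Q, ⟨hQ, hA⟩, rfl⟩

/-- The Mori–Nagata theorem in the form using a finite subalgebra. -/
theorem mori : ∃ C : Subalgebra A K, Module.Finite A C ∧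
      (∀ (p : Ideal C) [p.IsPrime], p.height = 1 →
        ∃ V : ValuationSubring K, IsDiscreteValuationRing V ∧
          ∀ x : K, x ∈ V ↔ ∃ s : C, s ∉ p ∧ IsIntegral C ((s : K) * x)) ∧
      (∀ x : K, x ∈ integralClosure A K ↔
        ∀ (p : Ideal C) [p.IsPrime], p.height = 1 → ∃ s : C, s ∉ p ∧ IsIntegral C ((s : K) * x)) ∧
      (∀ x : K, {p : Ideal C | p.IsPrime ∧ p.height = 1 ∧
        ¬ ∃ s : C, s ∉ p ∧ IsIntegral C ((s : K) * x)}.Finite) := by
  obtain ⟨C, hfin, hCB, hsep⟩ := exists_separating A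
  let ι : C →+* B := (Subalgebra.inclusion hCB).toRingHom
  let _ : Algebra C B := ι.toAlgebra
  have : IsScalarTower A C B := IsScalarTower.of_algebraMap_eq fun _ => Subtype.ext rfl
  have hint : Algebra.IsIntegral C B := ⟨fun b => (IsIntegralClosure.isIntegral A K b).tower_top⟩
  have hintK : ∀ y : K, IsIntegral C y ↔ y ∈ (B).toSubring := fun y => ⟨fun h => by
    have : Algebra.IsIntegral A C := Algebra.IsIntegral.of_finite A C
    exact isIntegral_trans y h, fun h => IsIntegral.tower_top h⟩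
  have hF := isFamily A
  have hsepC : ∀ P : Ideal B, IsH1 P → ∀ Q : Ideal B, Q.IsPrime → Q.comap ι = P.comap ι → Q = P :=
    fun P hP Q hQ he => hsep P hP Q hQ fun b hb => by
      have := SetLike.ext_iff.1 he ⟨b, hb⟩
      exact this
  -- the contraction of a height one prime has height one
  have hdown : ∀ P : Ideal B, IsH1 P → (P.comap ι).IsPrime ∧ (P.comap ι).height = 1 := by
    intro P hP
    have := hP.1
    refine ⟨inferInstance, (isH1_iff _).2 ⟨inferInstance, fun e => hP.2.1 (Ideal.eq_bot_of_comap_eq_bot e), fun q hq hlt => ?_⟩⟩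
    obtain ⟨Q', -, hQ', hQq⟩ := Ideal.exists_ideal_over_prime_of_isIntegral q (⊥ : Ideal B) (fun x hx => by
      have : x = 0 := Subtype.ext (show (x : K) = 0 from congrArg Subtype.val (show ι x = 0 from hx))
      rw [this]; exact q.zero_mem)
    obtain ⟨Q, hle, hQ, hQP⟩ := Ideal.exists_ideal_over_prime_of_isIntegral (P.comap ι) Q'
      (show Q'.comap (algebraMap C B) ≤ _ by rw [hQq]; exact hlt.le)
    have hQeq := hsepC P hP Q hQ hQP
    subst hQeq
    have hne : Q' ≠ Q := fun e => hlt.ne (by rw [← hQq, e]; rfl)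
    have h0 := hP.2.2 Q' hQ' (lt_of_le_of_ne hle hne)
    rw [← hQq, h0]
    exact (Submodule.eq_bot_iff _).2 fun x hx => Subtype.ext (show (x : K) = 0 from congrArg Subtype.val (show ι x = 0 from hx))
  -- a height one prime is dominated by exactly one height one prime
  have hup : ∀ (p : Ideal C), p.IsPrime → p.height = 1 → ∃ P : Ideal B, IsH1 P ∧ P.comap ι = p := by
    intro p hp hp1
    obtain ⟨P, -, hP, hPp⟩ := Ideal.exists_ideal_over_prime_of_isIntegral p (⊥ : Ideal B) (fun x hx => by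
      have : x = 0 := Subtype.ext (show (x : K) = 0 from congrArg Subtype.val (show ι x = 0 from hx))
      rw [this]; exact p.zero_mem)
    refine ⟨P, ⟨hP, fun e => Ideal.ne_bot_of_height_eq_one hp1 ?_, fun Q hQ hlt => ?_⟩, hPp⟩
    · rw [← hPp, e]
      exact (Submodule.eq_bot_iff _).2 fun x hx => Subtype.ext (show (x : K) = 0 from congrArg Subtype.val (show ι x = 0 from hx))
    · obtain ⟨hle, y, hyP, hyQ⟩ := SetLike.lt_iff_le_and_exists.1 hlt
      have h1 : Q.comap (algebraMap C B) < P.comap (algebraMap C B) :=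
        Ideal.comap_lt_comap_of_integral_mem_sdiff hle ⟨hyP, hyQ⟩ (hint.isIntegral y)
      rw [hPp] at h1
      exact Ideal.eq_bot_of_comap_eq_bot (((isH1_iff p).1 hp1).2.2 _ inferInstance h1)
  -- membership in the ring attached to a height one prime
  have hloc : ∀ P : Ideal B, IsH1 P → ∀ x : K,
      (∃ s : B, s ∉ P ∧ (s : K) * x ∈ (B).toSubring) ↔ ∃ s : C, s ∉ P.comap ι ∧ IsIntegral C ((s : K) * x) := by
    intro P hP x
    have := hP.1
    constructor
    · rintro ⟨s, hs, hsx⟩
      by_contra hne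
      push Not at hne
      let J : Ideal B :=
        { carrier := {t | (t : K) * x ∈ (B).toSubring}
          zero_mem' := by simp
          add_mem' := fun {a b} ha hb => by
            show ((a : K) + b) * x ∈ (B).toSubring
            rw [add_mul]; exact Subring.add_mem _ ha hb
          smul_mem' := fun a b hb => by
            show ((a : K) * b) * x ∈ (B).toSubring
            rw [mul_assoc]; exact Subring.mul_mem _ a.2 hb }
      obtain ⟨Q, hJQ, hQ, hQP⟩ := Ideal.exists_ideal_over_prime_of_isIntegral (P.comap ι) J (fun t ht => by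
        by_contra hn
        exact hne t hn ((hintK _).2 ht))
      exact hs (hsepC P hP Q hQ hQP ▸ hJQ hsx)
    · rintro ⟨s, hs, hsx⟩
      exact ⟨ι s, hs, (hintK _).1 hsx⟩
  refine ⟨C, hfin, fun p hp hp1 => ?_, fun x => ⟨fun hx p hp _ => ⟨1, fun h => hp.ne_top ((Ideal.eq_top_iff_one _).2 h), ?_⟩,
    fun hx => ?_⟩, fun x => ?_⟩
  · obtain ⟨P, hP, rfl⟩ := hup p hp hp1
    obtain ⟨O, hO, -, hOmem⟩ := hF.exists_of_isH1 (P := P) hP
    exact ⟨O, hF.dvr O hO, fun x => (hOmem x).trans (hloc P hP x)⟩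
  · exact (hintK _).2 (by simpa using hx)
  · refine hF.mem_of_forall_isH1 x fun O hO hH => ?_
    obtain ⟨hp, hp1⟩ := hdown _ hH
    obtain ⟨s, hs, hsx⟩ := (hloc _ hH x).2 (hx _ hp1)
    have h1 : O.valuation (s : K) = 1 := le_antisymm ((O.valuation_le_one_iff _).2 (hF.mem hO s)) (not_lt.1 hs)
    have h2 := (O.valuation_le_one_iff _).2 (hF.mem hO ⟨_, hsx⟩)
    rw [map_mul, h1, one_mul] at h2
    exact (O.valuation_le_one_iff _).1 h2
  · obtain ⟨a, ha, ha0, hax⟩ := hF.frac x
    let a' : B := ⟨a, ha⟩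
    have hfin' : {P : Ideal B | IsH1 P ∧ a' ∈ P}.Finite := by
      have hfc := hF.finChar a ha ha0
      refine (hfc.biUnion (t := fun O => {P : Ideal B | ∀ b, b ∈ P ↔ O.valuation (b : K) < 1}) fun O _ =>
        Set.Subsingleton.finite fun P hP P' hP' => Ideal.ext fun b => (hP b).trans (hP' b).symm).subset ?_
      rintro P ⟨hP, haP⟩
      obtain ⟨O, hO, hc, -⟩ := hF.exists_of_isH1 (P := P) hP
      refine Set.mem_biUnion (x := O) ⟨hO, ?_⟩ fun b => by rw [← hc]; rfl
      rw [← hc] at haP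
      exact haP
    refine (hfin'.image fun P => P.comap ι).subset ?_
    rintro p ⟨hp, hp1, hne⟩
    obtain ⟨P, hP, rfl⟩ := hup p hp hp1
    refine ⟨P, ⟨hP, ?_⟩, rfl⟩
    by_contra hn
    exact hne ((hloc P hP x).1 ⟨a', hn, hax⟩)

end MoriLib
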