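import Mathlib.RingTheory.Valuation.ValuationSubring
import Mathlib.RingTheory.DiscreteValuationRing.Basic
import Mathlib.RingTheory.Ideal.Height

/-! Intersections of discrete valuation rings of finite character. -/

set_option autoImplicit false
universe u

noncomputable section

namespace MoriLib

variable {K : Type u} [Field K]

theorem exists_uniformizer {O : ValuationSubring K} (h : IsDiscreteValuationRing O) :
    ∃ π : K, π ≠ 0 ∧ O.valuation π < 1 ∧ ∀ x : K, x ≠ 0 → ∃ z : ℤ, O.valuation x = O.valuation π ^ z := by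
  obtain ⟨π, hπ⟩ := IsDiscreteValuationRing.exists_irreducible O
  have key : ∀ x : O, (x : K) ≠ 0 → ∃ n : ℕ, O.valuation x = O.valuation π ^ n := fun x hx => by
    obtain ⟨n, u, rfl⟩ := IsDiscreteValuationRing.eq_unit_mul_pow_irreducible
      (x := x) (fun e => hx (by rw [e]; rfl)) hπ
    refine ⟨n, ?_⟩
    simp only [MulMemClass.coe_mul, SubmonoidClass.coe_pow, map_mul, map_pow]
    rw [(O.valuation_eq_one_iff (u : O)).1 u.isUnit, one_mul]
  refine ⟨π, fun e => hπ.ne_zero (Subtype.ext e), (O.valuation_lt_one_iff π).1 (hπ.maximalIdeal_eq ▸ Ideal.mem_span_singleton_self π), fun x hx => ?_⟩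
  rcases O.mem_or_inv_mem x with h | h
  · obtain ⟨n, hn⟩ := key ⟨x, h⟩ hx
    exact ⟨n, by rw [zpow_natCast]; exact hn⟩
  · obtain ⟨n, hn⟩ := key ⟨x⁻¹, h⟩ (inv_ne_zero hx)
    refine ⟨-(n : ℤ), ?_⟩
    rw [zpow_neg, zpow_natCast, ← hn, map_inv₀, inv_inv]

theorem exists_pow_mul_le {O : ValuationSubring K} (h : IsDiscreteValuationRing O) (s x : K)
    (hs : O.valuation s < 1) : ∃ N : ℕ, O.valuation (s ^ N * x) ≤ 1 := by
  by_cases hx : x = 0
  · exact ⟨0, by simp [hx]⟩
  by_cases hs0 : s = 0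
  · exact ⟨1, by simp [hs0]⟩
  obtain ⟨π, hπ0, hπ, hz⟩ := exists_uniformizer h
  obtain ⟨a, ha⟩ := hz s hs0
  obtain ⟨b, hb⟩ := hz x hx
  have h0 : 0 < O.valuation π := zero_lt_iff.2 ((map_ne_zero _).2 hπ0)
  have ha0 : 0 < a := by
    rw [ha] at hs
    by_contra hle
    exact not_le.2 hs (one_le_zpow_of_nonpos₀ h0 hπ.le (not_lt.1 hle))
  refine ⟨b.natAbs, ?_⟩
  rw [map_mul, map_pow, ha, hb, ← zpow_natCast, ← zpow_mul, ← zpow_add₀ h0.ne']
  refine zpow_le_one₀ h0 hπ.le ?_
  have : (b.natAbs : ℤ) ≤ a * b.natAbs := le_mul_of_one_le_left (by omega) ha0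
  omega

theorem exists_pow_mul_eq_one {O : ValuationSubring K} (h : IsDiscreteValuationRing O) (y t : K)
    (hy : 1 < O.valuation y) (ht : O.valuation t < 1) (ht0 : t ≠ 0) :
    ∃ i j : ℕ, j ≠ 0 ∧ O.valuation (y ^ i * t ^ j) = 1 := by
  have hy0 : y ≠ 0 := fun e => by simp [e] at hy
  obtain ⟨π, hπ0, hπ, hz⟩ := exists_uniformizer h
  obtain ⟨a, ha⟩ := hz y hy0
  obtain ⟨b, hb⟩ := hz t ht0
  have h0 : 0 < O.valuation π := zero_lt_iff.2 ((map_ne_zero _).2 hπ0)
  have ha0 : a < 0 := by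
    rw [ha] at hy
    by_contra hle
    exact not_le.2 hy (zpow_le_one₀ h0 hπ.le (not_lt.1 hle))
  have hb0 : 0 < b := by
    rw [hb] at ht
    by_contra hle
    exact not_le.2 ht (one_le_zpow_of_nonpos₀ h0 hπ.le (not_lt.1 hle))
  refine ⟨b.toNat, (-a).toNat, by omega, ?_⟩
  rw [map_mul, map_pow, map_pow, ha, hb, ← zpow_natCast, ← zpow_natCast, ← zpow_mul, ← zpow_mul,
    ← zpow_add₀ h0.ne', Int.toNat_of_nonneg hb0.le, Int.toNat_of_nonneg (by omega),
    show a * b + b * -a = 0 by ring, zpow_zero]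

/-- A finite character family of discrete valuation rings defining a subring. -/
structure IsFamily (B : Subring K) (F : Set (ValuationSubring K)) : Prop where
  dvr : ∀ O ∈ F, IsDiscreteValuationRing O
  inter : ∀ x : K, x ∈ B ↔ ∀ O ∈ F, x ∈ O
  finChar : ∀ b ∈ B, b ≠ 0 → {O ∈ F | O.valuation b < 1}.Finite
  frac : ∀ x : K, ∃ a ∈ B, a ≠ 0 ∧ a * x ∈ B

/-- Prime of height one, in elementary form. -/
def IsH1 {R : Type*} [CommRing R] (P : Ideal R) : Prop :=
  P.IsPrime ∧ P ≠ ⊥ ∧ ∀ Q : Ideal R, Q.IsPrime → Q < P → Q = ⊥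

theorem isH1_iff {R : Type*} [CommRing R] [IsDomain R] (P : Ideal R) [P.IsPrime] :
    P.height = 1 ↔ IsH1 P := by
  constructor
  · intro h
    refine ⟨inferInstance, Ideal.ne_bot_of_height_eq_one h, fun Q hQ hlt => ?_⟩
    have h1 : P.height ≤ ((1 : ℕ) : ℕ∞) := by rw [h, Nat.cast_one]
    have h2 := Ideal.height_le_iff.1 h1 Q hQ hlt
    rw [Nat.cast_one, Order.lt_one_iff, Ideal.height_eq_zero_iff_eq_bot] at h2
    exact h2
  · rintro ⟨-, hne, hQ⟩
    have h1 : P.height ≤ ((1 : ℕ) : ℕ∞) := Ideal.height_le_iff.2 fun Q hQp hlt => by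
      rw [Nat.cast_one, Order.lt_one_iff, Ideal.height_eq_zero_iff_eq_bot]
      exact hQ Q hQp hlt
    rw [Nat.cast_one] at h1
    refine le_antisymm h1 (Order.one_le_iff_ne_zero.2 fun h0 => hne ?_)
    exact Ideal.height_eq_zero_iff_eq_bot.1 h0

variable (B : Subring K)

/-- The centre of a valuation ring on a subring contained in it. -/
def center (O : ValuationSubring K) (hO : ∀ b : B, (b : K) ∈ O) : Ideal B where
  carrier := {b | O.valuation (b : K) < 1}
  zero_mem' := by simp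
  add_mem' {x y} hx hy := by
    simp only [Set.mem_setOf_eq, Subring.coe_add] at *
    exact (Valuation.map_add_lt _ hx hy)
  smul_mem' c x hx := by
    simp only [Set.mem_setOf_eq, smul_eq_mul, Subring.coe_mul, map_mul] at *
    exact mul_lt_one_of_nonneg_of_lt_one_right ((O.valuation_le_one_iff _).2 (hO c)) zero_le hx

theorem center_isPrime (O : ValuationSubring K) (hO : ∀ b : B, (b : K) ∈ O) : (center B O hO).IsPrime where
  ne_top' h := by
    have : (1 : B) ∈ center B O hO := h ▸ Submodule.mem_top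
    simpa [center] using this
  mem_or_mem' {x y} hxy := by
    by_contra hc
    push Not at hc
    simp only [center, Submodule.mem_mk, AddSubmonoid.mem_mk, AddSubsemigroup.mem_mk, Set.mem_setOf_eq,
      Subring.coe_mul, map_mul, not_lt] at hxy hc
    exact not_le.2 hxy (one_le_mul hc.1 hc.2)

variable {B} {F : Set (ValuationSubring K)}

theorem IsFamily.mem (h : IsFamily B F) {O : ValuationSubring K} (hO : O ∈ F) (b : B) : (b : K) ∈ O :=
  (h.inter b).1 b.2 O hO

theorem IsFamily.center_ne_bot (h : IsFamily B F) {O : ValuationSubring K} (hO : O ∈ F) :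
    center B O (h.mem hO) ≠ ⊥ := fun e => by
  obtain ⟨π, hπ0, hπ, -⟩ := exists_uniformizer (h.dvr O hO)
  obtain ⟨a, ha, ha0, hab⟩ := h.frac π
  have : (⟨a * π, hab⟩ : B) ∈ center B O (h.mem hO) := by
    show O.valuation (a * π) < 1
    rw [map_mul]
    exact mul_lt_one_of_nonneg_of_lt_one_right ((O.valuation_le_one_iff _).2 (h.mem hO ⟨a, ha⟩)) zero_le hπ
  rw [e, Ideal.mem_bot] at this
  exact mul_ne_zero ha0 hπ0 (congrArg Subtype.val this)

/-- Localisation of the intersection at a prime. -/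
theorem IsFamily.loc (h : IsFamily B F) (P : Ideal B) [P.IsPrime] (x : K)
    (hx : ∀ O (hO : O ∈ F), center B O (h.mem hO) ≤ P → x ∈ O) :
    ∃ s : B, s ∉ P ∧ (s : K) * x ∈ B := by
  classical
  obtain ⟨a, ha, ha0, hax⟩ := h.frac x
  let bad : Set (ValuationSubring K) := {O | O ∈ F ∧ x ∉ O}
  have hfin : bad.Finite := (h.finChar a ha ha0).subset fun O ⟨hO, hxO⟩ => by
    refine ⟨hO, lt_of_le_of_ne ((O.valuation_le_one_iff a).2 (h.mem hO ⟨a, ha⟩)) fun e => hxO ?_⟩
    have h1 := (O.valuation_le_one_iff (a * x)).2 (h.mem hO ⟨_, hax⟩)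
    rw [map_mul, e, one_mul] at h1
    exact (O.valuation_le_one_iff x).1 h1
  have hs : ∀ O ∈ bad, ∃ s : B, s ∉ P ∧ (s : K) * x ∈ O := by
    rintro O ⟨hO, hxO⟩
    obtain ⟨s, hs, hsP⟩ := SetLike.not_le_iff_exists.1 fun hle => hxO (hx O hO hle)
    obtain ⟨N, hN⟩ := exists_pow_mul_le (h.dvr O hO) (s : K) x hs
    exact ⟨s ^ N, fun hm => hsP (Ideal.IsPrime.mem_of_pow_mem ‹_› N hm), (O.valuation_le_one_iff _).1 hN⟩
  choose! s hsP hsO using hs
  refine ⟨∏ O ∈ hfin.toFinset, s O, fun hm => ?_, (h.inter _).2 fun O hO => ?_⟩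
  · obtain ⟨O, hO, hOP⟩ := (Ideal.IsPrime.prod_mem_iff).1 hm
    exact hsP O (hfin.mem_toFinset.1 hO) hOP
  · by_cases hxO : x ∈ O
    · exact O.mul_mem _ _ (h.mem hO _) hxO
    · have hb : O ∈ hfin.toFinset := hfin.mem_toFinset.2 ⟨hO, hxO⟩
      rw [← Finset.mul_prod_erase _ _ hb, Subring.coe_mul, mul_comm (s O : K), mul_assoc]
      exact O.mul_mem _ _ (h.mem hO _) (hsO O ⟨hO, hxO⟩)

theorem IsFamily.exists_center_le (h : IsFamily B F) {P : Ideal B} [P.IsPrime] (hP : P ≠ ⊥) :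
    ∃ (O : ValuationSubring K) (hO : O ∈ F), center B O (h.mem hO) ≤ P := by
  by_contra hne
  push Not at hne
  obtain ⟨b, hb, hb0⟩ := Submodule.exists_mem_ne_zero_of_ne_bot hP
  have hbK : (b : K) ≠ 0 := fun e => hb0 (Subtype.ext e)
  obtain ⟨s, hs, hsb⟩ := h.loc P (b : K)⁻¹ fun O hO hle => absurd hle (hne O hO)
  refine hs ?_
  have : s = b * ⟨_, hsb⟩ := Subtype.ext (by
    show (s : K) = b * (s * (b : K)⁻¹)
    field_simp)
  rw [this]
  exact P.mul_mem_right _ hb

/-- The localisation at a height one prime is a member of the family. -/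
theorem IsFamily.exists_of_isH1 (h : IsFamily B F) {P : Ideal B} (hP : IsH1 P) :
    ∃ (O : ValuationSubring K) (hO : O ∈ F), center B O (h.mem hO) = P ∧
      ∀ x : K, x ∈ O ↔ ∃ s : B, s ∉ P ∧ (s : K) * x ∈ B := by
  classical
  have := hP.1
  have heq : ∀ O (hO : O ∈ F), center B O (h.mem hO) ≤ P → center B O (h.mem hO) = P := fun O hO hle => by
    by_contra hne
    exact h.center_ne_bot hO (hP.2.2 _ (center_isPrime B O _) (lt_of_le_of_ne hle hne))
  obtain ⟨O, hO, hle⟩ := h.exists_center_le hP.2.1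
  refine ⟨O, hO, heq O hO hle, fun x => ⟨fun hx => ?_, ?_⟩⟩
  swap
  · rintro ⟨s, hs, hsx⟩
    have h1 : O.valuation (s : K) = 1 := le_antisymm ((O.valuation_le_one_iff _).2 (h.mem hO s))
      (not_lt.1 fun hlt => hs (heq O hO hle ▸ hlt))
    have h2 := (O.valuation_le_one_iff _).2 (h.mem hO ⟨_, hsx⟩)
    rw [map_mul, h1, one_mul] at h2
    exact (O.valuation_le_one_iff _).1 h2
  refine h.loc P x fun O' hO' hle' => ?_
  -- the members centred at `P` agree at `x`
  by_contra hx'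
  obtain ⟨b, hb, hb0⟩ := Submodule.exists_mem_ne_zero_of_ne_bot hP.2.1
  let G : Set (ValuationSubring K) := {Q | ∃ hQ : Q ∈ F, center B Q (h.mem hQ) = P}
  have hG : G.Finite := (h.finChar b b.2 fun e => hb0 (Subtype.ext e)).subset fun Q ⟨hQ, e⟩ =>
    ⟨hQ, show b ∈ center B Q (h.mem hQ) from e ▸ hb⟩
  -- choose an exponent at which no residue of `x` is a root of unity
  let bad : ValuationSubring K → Set ℕ := fun Q =>
    {N | N.Prime ∧ Q.valuation x = 1 ∧ Q.valuation (∑ k ∈ Finset.range N, x ^ k) < 1}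
  have hbad : ∀ Q, (bad Q).Subsingleton := by
    rintro Q N ⟨hN, hvx, hvN⟩ M ⟨hM, -, hvM⟩
    by_contra hne
    have hxQ : x ∈ Q := (Q.valuation_le_one_iff x).1 hvx.le
    let r := IsLocalRing.residue Q ⟨x, hxQ⟩
    have hsum : ∀ n, Q.valuation (∑ k ∈ Finset.range n, x ^ k) < 1 → ∑ k ∈ Finset.range n, r ^ k = 0 := fun n hn => by
      have : IsLocalRing.residue Q (∑ k ∈ Finset.range n, (⟨x, hxQ⟩ : Q) ^ k) = 0 := by
        rw [IsLocalRing.residue_eq_zero_iff, Q.valuation_lt_one_iff]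
        simpa using hn
      rw [map_sum] at this; simp only [map_pow] at this
      exact this
    have hpow : ∀ n, Q.valuation (∑ k ∈ Finset.range n, x ^ k) < 1 → r ^ n = 1 := fun n hn => by
      have := geom_sum_mul r n
      rw [hsum n hn, zero_mul] at this
      exact (sub_eq_zero.1 this.symm)
    have hr1 : r = 1 := by
      have hco : Nat.gcd N M = 1 := (Nat.coprime_primes hN hM).2 hne
      simpa [hco] using pow_gcd_eq_one.2 ⟨hpow N hvN, hpow M hvM⟩
    have hN0 : (N : IsLocalRing.ResidueField Q) = 0 := by simpa [hr1] using hsum N hvN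
    have hM0 : (M : IsLocalRing.ResidueField Q) = 0 := by simpa [hr1] using hsum M hvM
    exact hne ((Nat.prime_dvd_prime_iff_eq hN hM).1 (by
      obtain ⟨p, hp⟩ := CharP.exists (IsLocalRing.ResidueField Q)
      have h1 := (CharP.cast_eq_zero_iff _ p N).1 hN0
      have h2 := (CharP.cast_eq_zero_iff _ p M).1 hM0
      rcases (Nat.dvd_prime hN).1 h1 with rfl | rfl
      · exact absurd rfl (CharP.char_ne_one (IsLocalRing.ResidueField Q) 1)
      · exact h2))
  obtain ⟨N, hN, hNbad⟩ : ∃ N, N.Prime ∧ ∀ Q ∈ G, N ∉ bad Q := by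
    obtain ⟨N, hN, hNn⟩ := Nat.infinite_setOf_prime.exists_notMem_finset
      ((hG.biUnion fun Q _ => (hbad Q).finite).toFinset)
    exact ⟨N, hN, fun Q hQ hc => hNn ((Set.Finite.mem_toFinset _).2 (Set.mem_biUnion hQ hc))⟩
  let p := ∑ k ∈ Finset.range N, x ^ k
  have hcase : ∀ Q ∈ G, (Q.valuation x ≤ 1 → Q.valuation p = 1) ∧
      (1 < Q.valuation x → 1 < Q.valuation p) := fun Q hQ => by
    obtain ⟨m, hm⟩ : ∃ m, N = m + 1 := ⟨N - 1, by have := hN.one_lt; omega⟩
    constructor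
    · intro hle1
      have hp : Q.valuation p ≤ 1 := Valuation.map_sum_le _ fun k _ => by
        rw [map_pow]; exact pow_le_one₀ zero_le hle1
      rcases eq_or_lt_of_le hle1 with he | hlt
      · exact le_antisymm hp (not_lt.1 fun hl => hNbad Q hQ ⟨hN, he, hl⟩)
      · have : p = (∑ k ∈ Finset.range m, x ^ (k + 1)) + 1 := by
          simp only [p, hm, Finset.sum_range_succ', pow_zero]
        rw [this, Valuation.map_add_eq_of_lt_right, map_one]
        rw [map_one]
        refine Valuation.map_sum_lt _ one_ne_zero fun k _ => ?_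
        rw [map_pow]; exact pow_lt_one₀ zero_le hlt (by omega)
    · intro hgt
      have hmpos : m ≠ 0 := by have := hN.one_lt; omega
      have : p = (∑ k ∈ Finset.range m, x ^ k) + x ^ m := by
        simp only [p, hm, Finset.sum_range_succ]
      rw [this, Valuation.map_add_eq_of_lt_right, map_pow]
      · exact one_lt_pow₀ hgt hmpos
      · refine Valuation.map_sum_lt _ ((map_ne_zero _).2 (pow_ne_zero _ fun e => by simp [e] at hgt)) fun k hk => ?_
        rw [map_pow, map_pow]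
        exact pow_lt_pow_right₀ hgt (Finset.mem_range.1 hk)
  have hOG : O ∈ G := ⟨hO, heq O hO hle⟩
  have hOG' : O' ∈ G := ⟨hO', heq O' hO' hle'⟩
  have hp1 : O.valuation p = 1 := (hcase O hOG).1 ((O.valuation_le_one_iff x).2 hx)
  have hp' : 1 < O'.valuation p := (hcase O' hOG').2 (not_le.1 fun hc => hx' ((O'.valuation_le_one_iff x).1 hc))
  obtain ⟨s, hs, hsp⟩ := h.loc P p⁻¹ fun Q hQ hQle => by
    refine (Q.valuation_le_one_iff _).1 ?_
    rw [map_inv₀]
    refine inv_le_one_of_one_le₀ ?_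
    rcases le_or_gt (Q.valuation x) 1 with hc | hc
    · exact ((hcase Q ⟨hQ, heq Q hQ hQle⟩).1 hc).ge
    · exact ((hcase Q ⟨hQ, heq Q hQ hQle⟩).2 hc).le
  have hval : ∀ Q (hQ : Q ∈ G), Q.valuation ((s : K) * p⁻¹) = (Q.valuation p)⁻¹ := fun Q hQ => by
    obtain ⟨hQF, hc⟩ := hQ
    have : Q.valuation (s : K) = 1 := le_antisymm ((Q.valuation_le_one_iff _).2 (h.mem hQF s))
      (not_lt.1 fun hlt => hs (hc ▸ hlt))
    rw [map_mul, map_inv₀, this, one_mul]
  have hmem : (⟨_, hsp⟩ : B) ∈ P := by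
    rw [← heq O' hO' hle']
    show O'.valuation ((s : K) * p⁻¹) < 1
    rw [hval O' hOG']
    exact inv_lt_one_of_one_lt₀ hp'
  rw [← heq O hO hle] at hmem
  have : O.valuation ((s : K) * p⁻¹) < 1 := hmem
  rw [hval O hOG, hp1, inv_one] at this
  exact lt_irrefl _ this

/-- Members centred at a prime which is not of height one are redundant. -/
theorem IsFamily.mem_of_forall_isH1 (h : IsFamily B F) (x : K)
    (hx : ∀ O (hO : O ∈ F), IsH1 (center B O (h.mem hO)) → x ∈ O) : x ∈ B := by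
  classical
  suffices key : ∀ G : Finset (ValuationSubring K),
      (∀ O ∈ G, ∀ hO : O ∈ F, ¬ IsH1 (center B O (h.mem hO))) → IsFamily B (F \ G) by
    obtain ⟨a, ha, ha0, hax⟩ := h.frac x
    have hfin : {O | O ∈ F ∧ x ∉ O}.Finite := (h.finChar a ha ha0).subset fun O ⟨hO, hxO⟩ => by
      refine ⟨hO, lt_of_le_of_ne ((O.valuation_le_one_iff a).2 (h.mem hO ⟨a, ha⟩)) fun e => hxO ?_⟩
      have h1 := (O.valuation_le_one_iff (a * x)).2 (h.mem hO ⟨_, hax⟩)
      rw [map_mul, e, one_mul] at h1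
      exact (O.valuation_le_one_iff x).1 h1
    have := key hfin.toFinset fun O hO hOF hH => (hfin.mem_toFinset.1 hO).2 (hx O hOF hH)
    refine (this.inter x).2 fun O hO => ?_
    by_contra hxO
    exact hO.2 (hfin.mem_toFinset.2 ⟨hO.1, hxO⟩)
  intro G
  induction G using Finset.induction_on with
  | empty => intro _; simpa using h
  | @insert O₀ G hnot ih =>
    intro hG
    have h' := ih fun O hO => hG O (Finset.mem_insert_of_mem hO)
    refine ⟨fun O hO => h'.dvr O ⟨hO.1, fun hc => hO.2 (by simp [hc])⟩, fun y => ⟨fun hy O hO => (h.inter y).1 hy O hO.1, fun hy => ?_⟩,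
      fun b hb hb0 => (h.finChar b hb hb0).subset fun O hO => ⟨hO.1.1, hO.2⟩, h.frac⟩
    refine (h'.inter y).2 fun O hO => ?_
    by_cases hOO : O = O₀
    swap
    · exact hy O ⟨hO.1, fun hc => by
        simp only [Finset.coe_insert, Set.mem_insert_iff] at hc
        exact hc.elim hOO hO.2⟩
    subst hOO
    by_contra hyO
    have hc := hG O (Finset.mem_insert_self O G) hO.1
    have hprime := center_isPrime B O (h.mem hO.1)
    obtain ⟨Q', hQ', hlt, hQ'0⟩ : ∃ Q' : Ideal B, Q'.IsPrime ∧ Q' < center B O (h.mem hO.1) ∧ Q' ≠ ⊥ := by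
      by_contra hne
      push Not at hne
      exact hc ⟨hprime, h.center_ne_bot hO.1, hne⟩
    obtain ⟨w, hw, hwle⟩ := h'.exists_center_le hQ'0
    obtain ⟨t, ht, ht0⟩ := Submodule.exists_mem_ne_zero_of_ne_bot (h'.center_ne_bot hw)
    have htK : (t : K) ≠ 0 := fun e => ht0 (Subtype.ext e)
    have htO : O.valuation (t : K) < 1 := hlt.le (hwle ht)
    have hyv : 1 < O.valuation y := not_le.1 fun hc => hyO ((O.valuation_le_one_iff y).1 hc)
    obtain ⟨i, j, hj, hij⟩ := exists_pow_mul_eq_one (h.dvr O hO.1) y t hyv htO htK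
    have hzB : y ^ i * (t : K) ^ j ∈ B := (h'.inter _).2 fun Q hQ => by
      by_cases hQO : Q = O
      · rw [hQO]; exact (O.valuation_le_one_iff _).1 hij.le
      · refine Q.mul_mem _ _ (pow_mem (hy Q ⟨hQ.1, fun hc => ?_⟩) i) (pow_mem (h.mem hQ.1 t) j)
        simp only [Finset.coe_insert, Set.mem_insert_iff] at hc
        exact hc.elim hQO hQ.2
    have hwO : w ≠ O := by
      rintro rfl
      exact absurd (lt_of_le_of_lt hwle hlt) (lt_irrefl _)
    have hyw : w.valuation y ≤ 1 := (w.valuation_le_one_iff y).2 (hy w ⟨hw.1, fun hc => by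
      simp only [Finset.coe_insert, Set.mem_insert_iff] at hc
      exact hc.elim hwO hw.2⟩)
    have : (⟨_, hzB⟩ : B) ∈ center B w (h'.mem hw) := by
      show w.valuation (y ^ i * (t : K) ^ j) < 1
      rw [map_mul, map_pow, map_pow]
      exact mul_lt_one_of_nonneg_of_lt_one_right (pow_le_one₀ zero_le hyw) zero_le (pow_lt_one₀ zero_le ht hj)
    have h2 : O.valuation (y ^ i * (t : K) ^ j) < 1 := hlt.le (hwle this)
    rw [hij] at h2
    exact lt_irrefl _ h2

end MoriLib
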