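import Groth.Agent.MoriLib.Setup
import Mathlib.RingTheory.QuasiFinite.Basic

/-! The Mori–Nagata theorem for Noetherian local domains. -/

set_option autoImplicit false
universe u

noncomputable section

open IsLocalRing

namespace MoriLib

variable (A : Type u) [CommRing A] [IsDomain A] [IsNoetherianRing A] [IsLocalRing A]

local notation "K" => FractionRing A
local notation "B" => integralClosure A (FractionRing A)

/-- `O` is the restriction of the localisation of a branch at a height one prime. -/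
def IsBranchRing (O : ValuationSubring K) (i : Idx A) (P : Ideal (R i)) : Prop :=
  P.IsPrime ∧ P.height = 1 ∧ (∃ a : A, a ≠ 0 ∧ algebraMap (Ah A) (R i) (algebraMap A (Ah A) a) ∈ P) ∧
    ∀ x : K, x ∈ O ↔ ∃ r s : R i, s ∉ P ∧ φ i x * (s : L i) = r

/-- The family of valuation rings. -/
def family : Set (ValuationSubring K) := {O | ∃ i P, IsBranchRing A O i P}

variable {A}

theorem exists_isBranchRing (i : Idx A) (P : Ideal (R i)) [P.IsPrime] (hP : P.height = 1) (a : A) (ha : a ≠ 0)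
    (haP : algebraMap (Ah A) (R i) (algebraMap A (Ah A) a) ∈ P) :
    ∃ O : ValuationSubring K, IsDiscreteValuationRing O ∧ IsBranchRing A O i P := by
  let RP := Localization.AtPrime P
  have : IsDomain RP := IsLocalization.isDomain_localization P.primeCompl_le_nonZeroDivisors
  have := isDVR_localization P hP
  let ψ : RP →ₐ[R i] L i := IsLocalization.liftAlgHom (M := P.primeCompl) (f := Algebra.ofId (R i) (L i)) fun s =>
    isUnit_iff_ne_zero.2 ((map_ne_zero_iff _ (IsFractionRing.injective (R i) (L i))).2 fun e => s.2 (by rw [e]; exact P.zero_mem))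
  let _ : Algebra RP (L i) := ψ.toRingHom.toAlgebra
  have : IsScalarTower (R i) RP (L i) := IsScalarTower.of_algebraMap_eq fun r => (ψ.commutes r).symm
  have : IsFractionRing RP (L i) := IsFractionRing.isFractionRing_of_isDomain_of_isLocalization P.primeCompl RP (L i)
  have hmem : ∀ x : K, φ i x ∈ Set.range (algebraMap RP (L i)) ↔ ∃ r s : R i, s ∉ P ∧ φ i x * (s : L i) = r := by
    intro x
    constructor
    · rintro ⟨d, hd⟩
      obtain ⟨r, s, rfl⟩ := IsLocalization.exists_mk'_eq P.primeCompl d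
      refine ⟨r, s, s.2, ?_⟩
      have := congrArg (algebraMap RP (L i)) (IsLocalization.mk'_spec RP r s)
      rw [map_mul, hd, ← IsScalarTower.algebraMap_apply, ← IsScalarTower.algebraMap_apply] at this
      exact this
    · rintro ⟨r, s, hs, he⟩
      refine ⟨IsLocalization.mk' RP r (⟨s, hs⟩ : P.primeCompl), ?_⟩
      have := congrArg (algebraMap RP (L i)) (IsLocalization.mk'_spec RP r (⟨s, hs⟩ : P.primeCompl))
      rw [map_mul, ← IsScalarTower.algebraMap_apply, ← IsScalarTower.algebraMap_apply] at this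
      have hs0 : (s : L i) ≠ 0 := fun e => hs (by rw [show s = 0 from Subtype.ext e]; exact P.zero_mem)
      refine mul_right_cancel₀ hs0 ?_
      rw [he]; exact this
  refine ⟨(rangeValuationSubring (D := RP) (L := L i)).comap (φ i).toRingHom,
    isDVR_comap (φ i).toRingHom RP (algebraMap A K a)
      ((map_ne_zero_iff _ (IsFractionRing.injective A K)).2 ha) ?_,
    ‹_›, hP, ⟨a, ha, haP⟩, fun x => hmem x⟩
  intro h
  obtain ⟨r, s, hs, he⟩ := (hmem _).1 h
  refine hs ?_
  have h1 : s = algebraMap (Ah A) (R i) (algebraMap A (Ah A) a) * r := by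
    refine Subtype.ext ?_
    have hne : algebraMap A (L i) a ≠ 0 := (map_ne_zero_iff _ (injective_L i)).2 ha
    rw [map_inv₀, (φ i).commutes, inv_mul_eq_iff_eq_mul₀ hne] at he
    rw [he, IsScalarTower.algebraMap_apply A (Ah A) (L i)]
    rfl
  rw [h1]
  exact P.mul_mem_right _ haP

theorem IsBranchRing.mem {O : ValuationSubring K} {i : Idx A} {P : Ideal (R i)} (h : IsBranchRing A O i P) (b : B) :
    (b : K) ∈ O :=
  (h.2.2.2 _).2 ⟨ρ i b, 1, fun h1 => h.1.ne_top ((Ideal.eq_top_iff_one _).2 h1), by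
    rw [coe_ρ]; simp⟩

theorem IsBranchRing.valuation_lt_one {O : ValuationSubring K} {i : Idx A} {P : Ideal (R i)}
    (h : IsBranchRing A O i P) (b : B) : O.valuation (b : K) < 1 ↔ ρ i b ∈ P := by
  by_cases hb : (b : K) = 0
  · rw [hb, map_zero, show b = 0 from Subtype.ext hb, map_zero]
    exact ⟨fun _ => P.zero_mem, fun _ => zero_lt_one⟩
  constructor
  · intro hlt
    by_contra hn
    have hinv : (b : K)⁻¹ ∈ O := (h.2.2.2 _).2 ⟨1, ρ i b, hn, by
      rw [coe_ρ, ← map_mul, inv_mul_cancel₀ hb, map_one, OneMemClass.coe_one]⟩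
    have h1 := (O.valuation_le_one_iff _).2 hinv
    rw [map_inv₀] at h1
    exact not_le.2 hlt (inv_le_one_iff₀.1 h1 |>.resolve_left (fun hle => (map_ne_zero O.valuation).2 hb (le_antisymm hle zero_le)))
  · intro hm
    refine lt_of_le_of_ne ((O.valuation_le_one_iff _).2 (h.mem b)) fun e => ?_
    have hinv : (b : K)⁻¹ ∈ O := (O.valuation_le_one_iff _).1 (by rw [map_inv₀, e, inv_one])
    obtain ⟨r, s, hs, he⟩ := (h.2.2.2 _).1 hinv
    refine hs ?_
    have : s = ρ i b * r := Subtype.ext (by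
      rw [map_inv₀, inv_mul_eq_iff_eq_mul₀ ((map_ne_zero (φ i)).2 hb)] at he
      rw [he, MulMemClass.coe_mul, coe_ρ])
    rw [this]
    exact P.mul_mem_right _ hm

variable (A)

theorem dvr_of_mem_family {O : ValuationSubring K} (hO : O ∈ family A) : IsDiscreteValuationRing O := by
  obtain ⟨i, P, hP⟩ := hO
  have := hP.1
  obtain ⟨a, ha, haP⟩ := hP.2.2.1
  obtain ⟨O', hd, hO'⟩ := exists_isBranchRing i P hP.2.1 a ha haP
  have : O = O' := SetLike.ext fun x => (hP.2.2.2 x).trans (hO'.2.2.2 x).symm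
  rw [this]; exact hd

theorem isIntegral_of_family (x : K) (hx : ∀ O ∈ family A, x ∈ O) : IsIntegral A x := by
  obtain ⟨a, b, ha, hab⟩ := exists_denom x
  refine isIntegral_of_forall x fun i => ?_
  let a' : R i := algebraMap (Ah A) (R i) (algebraMap A (Ah A) a)
  let b' : R i := algebraMap (Ah A) (R i) (algebraMap A (Ah A) b)
  have ha' : (a' : L i) = algebraMap A (L i) a := (IsScalarTower.algebraMap_apply A (Ah A) (L i) a).symm
  have hb' : (b' : L i) = algebraMap A (L i) b := (IsScalarTower.algebraMap_apply A (Ah A) (L i) b).symm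
  have hmul : (a' : L i) * φ i x = b' := by
    rw [ha', hb', ← (φ i).commutes, ← map_mul, hab, (φ i).commutes]
  have ha0 : a' ≠ 0 := fun e => (map_ne_zero_iff _ (injective_L i)).2 ha (by rw [← ha', e]; rfl)
  obtain ⟨c, hc⟩ : a' ∣ b' := NormalLib.dvd_of_forall_associatedPrimes fun P hP => by
    have := hP.isPrime
    obtain ⟨O, -, hO⟩ := exists_isBranchRing i P (NormalLib.height_eq_one_of_mem_associatedPrimes ha0 hP) a ha
      (NormalLib.mem_associatedPrimes_quotient_of_le hP)
    obtain ⟨r, s, hs, he⟩ := (hO.2.2.2 x).1 (hx O ⟨i, P, hO⟩)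
    refine ⟨s, hs, r, Subtype.ext ?_⟩
    rw [MulMemClass.coe_mul, MulMemClass.coe_mul, ← he, ← hmul]
    ring
  have : φ i x = c := by
    refine mul_left_cancel₀ (fun e => ha0 (Subtype.ext e)) (hmul.trans ?_)
    rw [hc, MulMemClass.coe_mul]
  rw [this]
  exact (Algebra.IsIntegral.isIntegral (R := Ah A) c).map (IsScalarTower.toAlgHom (Ah A) (R i) (L i))

theorem finite_primes {i : Idx A} {r : R i} (hr : r ≠ 0) :
    {P : Ideal (R i) | P.IsPrime ∧ P.height = 1 ∧ r ∈ P}.Finite := by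
  refine (Ideal.finite_minimalPrimes_of_isNoetherianRing (R i) (Ideal.span {r})).subset ?_
  rintro P ⟨hP, hP1, hr'⟩
  obtain ⟨Q, hQ, hQP⟩ := Ideal.exists_minimalPrimes_le ((Ideal.span_singleton_le_iff_mem (I := P)).2 hr')
  suffices Q = P by rwa [← this]
  by_contra hne
  have : Q.IsPrime := hQ.1.1
  have h0 := ((isH1_iff P).1 hP1).2.2 Q this (lt_of_le_of_ne hQP hne)
  exact hr ((Submodule.mem_bot _).1 (h0 ▸ hQ.1.2 (Ideal.mem_span_singleton_self r)))

theorem isFamily : IsFamily (B).toSubring (family A) where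
  dvr _ hO := dvr_of_mem_family A hO
  inter x := ⟨fun hx O hO => by obtain ⟨i, P, hP⟩ := hO; exact hP.mem ⟨x, hx⟩, fun hx => isIntegral_of_family A x hx⟩
  finChar b hb hb0 := by
    refine (Set.finite_iUnion (ι := Idx A) fun i => ?_).subset
      (show _ ⊆ ⋃ i, {O | ∃ P, IsBranchRing A O i P ∧ ρ i ⟨b, hb⟩ ∈ P} from ?_)
    · have hr : ρ i (⟨b, hb⟩ : B) ≠ 0 := fun e => hb0 ((map_eq_zero (φ i)).1 (by
        have := congrArg Subtype.val e
        rwa [coe_ρ] at this))
      refine ((finite_primes A hr).biUnion fun P _ => ?_).subset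
        (show _ ⊆ ⋃ P ∈ {P : Ideal (R i) | P.IsPrime ∧ P.height = 1 ∧ ρ i ⟨b, hb⟩ ∈ P}, {O | IsBranchRing A O i P} from ?_)
      · exact Set.Subsingleton.finite fun O hO O' hO' => SetLike.ext fun x => (hO.2.2.2 x).trans (hO'.2.2.2 x).symm
      · rintro O ⟨P, hP, hm⟩
        exact Set.mem_biUnion (show P ∈ {P : Ideal (R i) | _} from ⟨hP.1, hP.2.1, hm⟩) hP
    · rintro O ⟨⟨i, P, hP⟩, hlt⟩
      exact Set.mem_iUnion.2 ⟨i, P, hP, (hP.valuation_lt_one ⟨b, hb⟩).1 hlt⟩
  frac x := by
    obtain ⟨a, b, ha, hab⟩ := exists_denom x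
    exact ⟨algebraMap A K a, (B).algebraMap_mem a, (map_ne_zero_iff _ (IsFractionRing.injective A K)).2 ha,
      hab ▸ (B).algebraMap_mem b⟩

/-- The finitely many exceptional primes. -/
theorem exists_conductor (i : Idx A) : ∃ f : Ah A, algebraMap (Ah A) (R i) f ≠ 0 ∧
    (∀ r : R i, ∃ w : Ah A, algebraMap (Ah A) (R i) f * r = algebraMap (Ah A) (R i) w) ∧
    ∀ j : Idx A, j ≠ i → f ∈ j.1 := by
  classical
  have := Fintype.ofFinite (Idx A)
  obtain ⟨t, ht⟩ := (Module.finite_def.1 (inferInstance : Module.Finite (D i) (R i)))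
  obtain ⟨d, hd⟩ := IsLocalization.exist_integer_multiples (nonZeroDivisors (D i)) (S := L i) t (fun r => (r : L i))
  obtain ⟨d₀, hd₀⟩ := Ideal.Quotient.mk_surjective (d : D i)
  have hall : ∀ r : R i, ∃ w : D i, algebraMap (D i) (R i) d * r = algebraMap (D i) (R i) w := fun r => by
    have hr : r ∈ Submodule.span (D i) (t : Set (R i)) := by rw [ht]; exact Submodule.mem_top
    induction hr using Submodule.span_induction with
    | mem y hy =>
      obtain ⟨w, hw⟩ := hd y hy
      refine ⟨w, Subtype.ext ?_⟩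
      rw [MulMemClass.coe_mul]
      exact (Algebra.smul_def (d : D i) (y : L i)).symm.trans hw.symm
    | zero => exact ⟨0, by simp⟩
    | add y z _ _ hy hz =>
      obtain ⟨w, hw⟩ := hy
      obtain ⟨w', hw'⟩ := hz
      exact ⟨w + w', by rw [mul_add, hw, hw', map_add]⟩
    | smul c y _ hy =>
      obtain ⟨w, hw⟩ := hy
      exact ⟨c * w, by rw [Algebra.smul_def, mul_left_comm, hw, map_mul]⟩
  have hg : ∀ j : Idx A, ∃ g : Ah A, (j ≠ i → g ∈ j.1) ∧ g ∉ i.1 := fun j => by
    by_cases hj : j = i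
    · exact ⟨1, fun h => absurd hj h, fun h => i.1.ne_top_iff_one.1 (isPrime_idx A i).ne_top h⟩
    · obtain ⟨g, hg, hgi⟩ := SetLike.not_le_iff_exists.1 fun hle : j.1 ≤ i.1 =>
        hj (Subtype.ext (le_antisymm hle (i.2.2 ⟨isPrime_idx A j, bot_le⟩ hle)))
      exact ⟨g, fun _ => hg, hgi⟩
  choose g hg hgi using hg
  refine ⟨d₀ * ∏ j, g j, fun h => ?_, fun r => ?_, fun j hj =>
    Ideal.mul_mem_left _ _ (Ideal.mem_of_dvd _ (Finset.dvd_prod_of_mem _ (Finset.mem_univ j)) (hg j hj))⟩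
  · have h' : algebraMap (Ah A) (L i) (d₀ * ∏ j, g j) = 0 := congrArg Subtype.val h
    rw [algebraMap_R_eq_zero_iff] at h'
    rcases (isPrime_idx A i).mem_or_mem h' with h1 | h1
    · exact nonZeroDivisors.coe_ne_zero d (by rw [← hd₀]; exact Ideal.Quotient.eq_zero_iff_mem.2 h1)
    · obtain ⟨j, -, hj⟩ := (isPrime_idx A i).prod_mem_iff.1 h1
      exact hgi j hj
  · obtain ⟨w, hw⟩ := hall r
    obtain ⟨w, rfl⟩ := Ideal.Quotient.mk_surjective w
    refine ⟨w * ∏ j, g j, ?_⟩
    rw [map_mul, map_mul, mul_right_comm]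
    congr 1
    rw [IsScalarTower.algebraMap_apply (Ah A) (D i) (R i), IsScalarTower.algebraMap_apply (Ah A) (D i) (R i),
      Ideal.Quotient.algebraMap_eq, hd₀]
    exact hw

theorem finite_over (p : Ideal A) [p.IsPrime] : {Q : Ideal B | Q.IsPrime ∧ Q.comap (algebraMap A B) = p}.Finite := by
  obtain ⟨q, hq⟩ : ∃ q : PrimeSpectrum (Ah A), PrimeSpectrum.comap (algebraMap A (Ah A)) q = ⟨p, ‹_›⟩ :=
    PrimeSpectrum.comap_surjective_of_faithfullyFlat _
  refine (Set.finite_iUnion (ι := Idx A) fun i => ?_).subset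
    (show _ ⊆ ⋃ i, (fun P : Ideal (R i) => P.comap (ρ i)) ''
      {P | P.IsPrime ∧ P.comap (algebraMap (Ah A) (R i)) = q.asIdeal} from ?_)
  · refine Set.Finite.image _ ?_
    exact (Algebra.QuasiFinite.finite_primesOver (S := R i) q.asIdeal).subset fun P hP => ⟨hP.1, ⟨hP.2.symm⟩⟩
  · rintro Q ⟨hQ, hQp⟩
    obtain ⟨i, P, hP, hPq, hPQ⟩ := exists_lift q.asIdeal Q (hQp.trans (congrArg PrimeSpectrum.asIdeal hq).symm)
    exact Set.mem_iUnion.2 ⟨i, P, ⟨hP, hPq⟩, hPQ⟩

/-- Away from the conductor the prime above is unique. -/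
theorem unique_over (i : Idx A) (P : Ideal (R i)) [P.IsPrime] {f : Ah A} (hfP : algebraMap (Ah A) (R i) f ∉ P)
    (hf : ∀ r : R i, ∃ w : Ah A, algebraMap (Ah A) (R i) f * r = algebraMap (Ah A) (R i) w)
    (hfj : ∀ j : Idx A, j ≠ i → f ∈ j.1) (Q : Ideal B) [Q.IsPrime]
    (hQ : Q.comap (algebraMap A B) = (P.comap (ρ i)).comap (algebraMap A B)) : Q = P.comap (ρ i) := by
  let q := P.comap (algebraMap (Ah A) (R i))
  obtain ⟨j, P', hP', hq, rfl⟩ := exists_lift q Q (by
    rw [hQ, Ideal.comap_comap, Ideal.comap_comap]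
    congr 1
    exact RingHom.ext fun a => ρ_algebraMap i a)
  by_cases hji : j = i
  · subst hji
    suffices P' = P by rw [this]
    refine Ideal.ext fun r => ?_
    obtain ⟨w, hw⟩ := hf r
    have hfP' : algebraMap (Ah A) (R j) f ∉ P' := fun h => hfP (by
      have : f ∈ P'.comap (algebraMap (Ah A) (R j)) := h
      rwa [hq] at this)
    have hiff : algebraMap (Ah A) (R j) w ∈ P' ↔ algebraMap (Ah A) (R j) w ∈ P := by
      rw [← Ideal.mem_comap, hq]; rfl
    constructor
    · intro hr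
      have h1 := hiff.1 (hw ▸ P'.mul_mem_left _ hr)
      exact ((‹P.IsPrime›).mem_or_mem (hw ▸ h1)).resolve_left hfP
    · intro hr
      have h1 := hiff.2 (hw ▸ P.mul_mem_left _ hr)
      exact (hP'.mem_or_mem (hw ▸ h1)).resolve_left hfP'
  · exfalso
    refine hfP ?_
    have h1 : f ∈ P'.comap (algebraMap (Ah A) (R j)) := by
      rw [Ideal.mem_comap, show algebraMap (Ah A) (R j) f = 0 from Subtype.ext ((algebraMap_R_eq_zero_iff j f).2 (hfj j hji))]
      exact P'.zero_mem
    rwa [hq] at h1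

/-- Only finitely many height one primes of the integral closure share their trace. -/
theorem finite_bad : {P : Ideal B | IsH1 P ∧
    ∃ Q : Ideal B, Q.IsPrime ∧ Q.comap (algebraMap A B) = P.comap (algebraMap A B) ∧ Q ≠ P}.Finite := by
  choose f hf0 hf hfj using exists_conductor A
  refine (Set.finite_iUnion (ι := Idx A) fun i => ?_).subset
    (show _ ⊆ ⋃ i, (fun P : Ideal (R i) => P.comap (ρ i)) ''
      {P | P.IsPrime ∧ P.height = 1 ∧ algebraMap (Ah A) (R i) (f i) ∈ P} from ?_)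
  · exact (finite_primes A (hf0 i)).image _
  · rintro P ⟨hP, Q, hQ, hQP, hne⟩
    obtain ⟨O, ⟨i, P', hP'⟩, hc, -⟩ := (isFamily A).exists_of_isH1 (P := P) hP
    have := hP'.1
    have hcomap : P'.comap (ρ i) = P := by
      rw [← hc]
      exact Ideal.ext fun b => (hP'.valuation_lt_one b).symm
    refine Set.mem_iUnion.2 ⟨i, P', ⟨hP'.1, hP'.2.1, ?_⟩, hcomap⟩
    by_contra hfP
    exact hne ((unique_over A i P' hfP (hf i) (hfj i) Q (by rw [hcomap]; exact hQP)).trans hcomap)

end MoriLib
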