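import Groth.Agent.MoriLib.DVR
import Groth.Agent.NormalLib.CompletionReduced
import Mathlib.RingTheory.Flat.FaithfullyFlat.Algebra
import Mathlib.AlgebraicGeometry.Pullbacks
import Mathlib.AlgebraicGeometry.PullbackCarrier

/-! The branches of the completion of a Noetherian local domain. -/

set_option autoImplicit false
universe u

noncomputable section

open IsLocalRing
open scoped TensorProduct

namespace MoriLib

variable (A : Type u) [CommRing A] [IsDomain A] [IsNoetherianRing A] [IsLocalRing A]

/-- The completion. -/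
abbrev Ah : Type u := AdicCompletion (maximalIdeal A) A

instance isNoetherianRing_Ah : IsNoetherianRing (Ah A) := (NormalLib.completion_props A).1
instance faithfullyFlat_Ah : Module.FaithfullyFlat A (Ah A) := (NormalLib.completion_props A).2.1

/-- The branches. -/
abbrev Idx : Type u := {P : Ideal (Ah A) // P ∈ minimalPrimes (Ah A)}

instance isPrime_idx (i : Idx A) : i.1.IsPrime := Ideal.minimalPrimes_isPrime i.2
instance finite_idx : Finite (Idx A) := (minimalPrimes.finite_of_isNoetherianRing (Ah A)).to_subtype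

variable {A}

abbrev D (i : Idx A) : Type u := Ah A ⧸ i.1
abbrev L (i : Idx A) : Type u := FractionRing (D i)
abbrev R (i : Idx A) : Type u := integralClosure (D i) (L i)

instance finite_R (i : Idx A) : Module.Finite (D i) (R i) :=
  NormalLib.finite_integralClosure_self ((NormalLib.completion_props A).2.2.1.2 i.1)

instance isNoetherianRing_R (i : Idx A) : IsNoetherianRing (R i) :=
  isNoetherianRing_iff.2 (isNoetherian_of_tower (D i) (isNoetherian_of_isNoetherianRing_of_finite (D i) (R i)))

instance isFractionRing_R (i : Idx A) : IsFractionRing (R i) (L i) :=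
  IsIntegralClosure.isFractionRing_of_finite_extension (D i) (L i) (L i) (R i)

instance isIntegrallyClosed_R (i : Idx A) : IsIntegrallyClosed (R i) :=
  integralClosure.isIntegrallyClosedOfFiniteExtension (L i)

instance finiteAh_R (i : Idx A) : Module.Finite (Ah A) (R i) := Module.Finite.trans (D i) (R i)

theorem algebraMap_R_eq_zero_iff (i : Idx A) (w : Ah A) : algebraMap (Ah A) (L i) w = 0 ↔ w ∈ i.1 := by
  rw [IsScalarTower.algebraMap_apply (Ah A) (D i) (L i), map_eq_zero_iff _ (IsFractionRing.injective (D i) (L i)),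
    Ideal.Quotient.algebraMap_eq, Ideal.Quotient.eq_zero_iff_mem]

theorem comap_idx (i : Idx A) : i.1.comap (algebraMap A (Ah A)) = ⊥ := by
  refine (Submodule.eq_bot_iff _).2 fun a ha => ?_
  by_contra ha0
  have hreg : algebraMap A (Ah A) a ∈ nonZeroDivisors (Ah A) := by
    refine mem_nonZeroDivisors_iff_right.2 fun z hz => ?_
    have h1 : Function.Injective (LinearMap.lsmul A (Ah A) a) := by
      have := Module.Flat.lTensor_preserves_injective_linearMap (M := Ah A) (LinearMap.lsmul A A a)
        (fun x y h => mul_left_cancel₀ ha0 h)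
      intro x y h
      have h2 : x ⊗ₜ[A] (1 : A) = y ⊗ₜ[A] (1 : A) := this (by
        simp only [LinearMap.lTensor_tmul, LinearMap.lsmul_apply, ← TensorProduct.smul_tmul]
        exact congrArg (· ⊗ₜ[A] (1 : A)) h)
      simpa using congrArg (TensorProduct.rid A (Ah A)) h2
    exact h1 (show a • z = a • 0 by rw [smul_zero, Algebra.smul_def, mul_comm]; exact hz)
  exact Set.disjoint_left.1 (Ideal.disjoint_nonZeroDivisors_of_mem_minimalPrimes i.2) ha hreg

theorem injective_L (i : Idx A) : Function.Injective (algebraMap A (L i)) := by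
  refine (injective_iff_map_eq_zero _).2 fun a ha => ?_
  rw [IsScalarTower.algebraMap_apply A (Ah A) (L i), algebraMap_R_eq_zero_iff] at ha
  exact (Submodule.eq_bot_iff _).1 (comap_idx i) a ha

/-- The embedding of the field of fractions in a branch. -/
def φ (i : Idx A) : FractionRing A →ₐ[A] L i :=
  IsLocalization.liftAlgHom (M := nonZeroDivisors A) (f := Algebra.ofId A (L i)) fun a =>
    isUnit_iff_ne_zero.2 ((map_ne_zero_iff _ (injective_L i)).2 (nonZeroDivisors.coe_ne_zero a))

theorem exists_denom (x : FractionRing A) : ∃ a b : A, a ≠ 0 ∧ algebraMap A _ a * x = algebraMap A _ b := by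
  obtain ⟨b, a, ha, rfl⟩ := IsFractionRing.div_surjective (A := A) x
  refine ⟨a, b, nonZeroDivisors.ne_zero ha, ?_⟩
  rw [mul_div_cancel₀ _ ((map_ne_zero_iff _ (IsFractionRing.injective A _)).2 (nonZeroDivisors.ne_zero ha))]

variable (S : Subalgebra A (FractionRing A))

/-- The map from the completion of an overring to a branch. -/
def θ (i : Idx A) : Ah A ⊗[A] S →ₐ[Ah A] L i :=
  Algebra.TensorProduct.lift (Algebra.ofId _ _) ((φ i).comp S.val) fun _ _ => Commute.all _ _

theorem θ_tmul (i : Idx A) (w : Ah A) (x : S) : θ S i (w ⊗ₜ x) = algebraMap (Ah A) (L i) w * φ i x := by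
  simp [θ, Algebra.ofId_apply]

theorem smul_injective {a : A} (ha : a ≠ 0) : Function.Injective (fun z : Ah A ⊗[A] S => a • z) := by
  have h1 := Module.Flat.lTensor_preserves_injective_linearMap (M := Ah A) (LinearMap.lsmul A S a)
    (fun x y h => Subtype.ext (smul_right_injective (FractionRing A) ha (congrArg Subtype.val h)))
  have e : LinearMap.lTensor (Ah A) (LinearMap.lsmul A S a) = LinearMap.lsmul A _ a :=
    TensorProduct.ext' fun w x => by simp [TensorProduct.tmul_smul]
  rw [e] at h1
  exact h1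

theorem exists_smul_eq (z : Ah A ⊗[A] S) : ∃ a : A, a ≠ 0 ∧ ∃ w : Ah A, a • z = w ⊗ₜ[A] (1 : S) := by
  induction z using TensorProduct.induction_on with
  | zero => exact ⟨1, one_ne_zero, 0, by simp⟩
  | tmul y x =>
    obtain ⟨a, b, ha, hab⟩ := exists_denom (x : FractionRing A)
    refine ⟨a, ha, b • y, ?_⟩
    rw [← TensorProduct.tmul_smul, TensorProduct.smul_tmul]
    refine congrArg (y ⊗ₜ[A] ·) (Subtype.ext ?_)
    simp only [SetLike.val_smul, Algebra.smul_def, OneMemClass.coe_one, mul_one]
    exact hab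
  | add z z' hz hz' =>
    obtain ⟨a, ha, w, hw⟩ := hz
    obtain ⟨a', ha', w', hw'⟩ := hz'
    refine ⟨a * a', mul_ne_zero ha ha', a' • w + a • w', ?_⟩
    rw [smul_add, TensorProduct.add_tmul, ← TensorProduct.smul_tmul' a', ← TensorProduct.smul_tmul' a, ← hw, ← hw',
      smul_smul, smul_smul, mul_comm a a']

theorem isNilpotent_of_θ (z : Ah A ⊗[A] S) (h : ∀ i, θ S i z = 0) : IsNilpotent z := by
  obtain ⟨a, ha, w, hw⟩ := exists_smul_eq S z
  have hwn : IsNilpotent w := by
    refine mem_nilradical.1 ?_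
    rw [nilradical_eq_sInf]
    refine Submodule.mem_sInf.2 fun P (hP : Ideal.IsPrime P) => ?_
    obtain ⟨q, hq, hqP⟩ := Ideal.exists_minimalPrimes_le (I := (⊥ : Ideal (Ah A))) (J := P) bot_le
    refine hqP ((algebraMap_R_eq_zero_iff ⟨q, hq⟩ w).1 ?_)
    have := congrArg (θ S ⟨q, hq⟩) hw
    rw [AlgHom.map_smul_of_tower, h, smul_zero, θ_tmul] at this
    simpa using this.symm
  obtain ⟨k, hk⟩ := hwn
  refine ⟨k + 1, smul_injective S (pow_ne_zero (k + 1) ha) ?_⟩
  show a ^ (k + 1) • z ^ (k + 1) = a ^ (k + 1) • (0 : Ah A ⊗[A] S)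
  rw [← smul_pow, hw, smul_zero, Algebra.TensorProduct.tmul_pow, pow_succ w, hk, zero_mul, TensorProduct.zero_tmul]

/-- Integrality can be tested in the branches. -/
theorem isIntegral_of_forall (x : FractionRing A) (h : ∀ i : Idx A, IsIntegral (Ah A) (φ i x)) : IsIntegral A x := by
  classical
  have := Fintype.ofFinite (Idx A)
  choose p hp hpx using h
  let S := Algebra.adjoin A {x}
  let y : Ah A ⊗[A] S := 1 ⊗ₜ ⟨x, Algebra.self_mem_adjoin_singleton A x⟩
  have hn : IsNilpotent (Polynomial.aeval y (∏ i, p i)) := isNilpotent_of_θ S _ fun i => by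
    have hy : θ S i y = φ i x := by rw [θ_tmul, map_one, one_mul]
    rw [← Polynomial.aeval_algHom_apply, hy, map_prod]
    exact Finset.prod_eq_zero (Finset.mem_univ i) (hpx i)
  obtain ⟨k, hk⟩ := hn
  have hy : IsIntegral (Ah A) y :=
    ⟨(∏ i, p i) ^ k, (Polynomial.monic_prod_of_monic _ _ fun i _ => hp i).pow k, by
      rw [← Polynomial.aeval_def, map_pow, hk]⟩
  have hgen : ∀ z : Ah A ⊗[A] S, z ∈ Algebra.adjoin (Ah A) ({y} : Set (Ah A ⊗[A] S)) := fun z => by
    induction z using TensorProduct.induction_on with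
    | zero => exact zero_mem _
    | add a b ha hb => exact add_mem ha hb
    | tmul w s =>
      obtain ⟨s, hs⟩ := s
      have hs' : s ∈ Algebra.adjoin A {x} := hs
      rw [Algebra.adjoin_singleton_eq_range_aeval] at hs'
      obtain ⟨q, rfl⟩ := hs'
      have : (⟨_, hs⟩ : S) = Polynomial.aeval (⟨x, Algebra.self_mem_adjoin_singleton A x⟩ : S) q := Subtype.ext
        (by rw [← Subalgebra.coe_val, ← Polynomial.aeval_algHom_apply]; rfl)
      rw [this, show w ⊗ₜ[A] Polynomial.aeval (⟨x, Algebra.self_mem_adjoin_singleton A x⟩ : S) q =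
        w • Polynomial.aeval y q from by
          rw [show Polynomial.aeval y q = Algebra.TensorProduct.includeRight (Polynomial.aeval
            (⟨x, Algebra.self_mem_adjoin_singleton A x⟩ : S) q) from by
              rw [← Polynomial.aeval_algHom_apply]; rfl,
            Algebra.TensorProduct.includeRight_apply, TensorProduct.smul_tmul', smul_eq_mul, mul_one]]
      refine Subalgebra.smul_mem _ ?_ w
      rw [← Polynomial.aeval_map_algebraMap (Ah A), Algebra.adjoin_singleton_eq_range_aeval]
      exact ⟨_, rfl⟩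
  have hfin : Module.Finite (Ah A) (Ah A ⊗[A] S) := by
    refine ⟨?_⟩
    have : (⊤ : Submodule (Ah A) (Ah A ⊗[A] S)) = Subalgebra.toSubmodule (Algebra.adjoin (Ah A) {y}) :=
      (eq_top_iff.2 fun z _ => hgen z).symm
    rw [this]
    exact hy.fg_adjoin_singleton
  have : Module.Finite A S := Module.Finite.of_finite_tensorProduct_of_faithfullyFlat (Ah A)
  exact IsIntegral.of_mem_of_fg S (Module.Finite.iff_fg.1 this) x (Algebra.self_mem_adjoin_singleton A x)

theorem exists_prime_both {A₀ A₁ B₀ : Type u} [CommRing A₀] [CommRing A₁] [CommRing B₀]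
    [Algebra A₀ A₁] [Algebra A₀ B₀] (p : PrimeSpectrum A₁) (q : PrimeSpectrum B₀)
    (h : PrimeSpectrum.comap (algebraMap A₀ A₁) p = PrimeSpectrum.comap (algebraMap A₀ B₀) q) :
    ∃ z : PrimeSpectrum (A₁ ⊗[A₀] B₀), PrimeSpectrum.comap (algebraMap A₁ (A₁ ⊗[A₀] B₀)) z = p ∧
      PrimeSpectrum.comap (Algebra.TensorProduct.includeRight : B₀ →ₐ[A₀] A₁ ⊗[A₀] B₀).toRingHom z = q := by
  have sq := AlgebraicGeometry.isPullback_SpecMap_of_isPushout _ _ _ _
    (CommRingCat.isPushout_tensorProduct A₀ A₁ B₀)
  obtain ⟨z, hz, hz'⟩ := AlgebraicGeometry.Scheme.exists_preimage_of_isPullback sq p q h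
  exact ⟨z, hz, hz'⟩

theorem φ_mem (i : Idx A) {x : FractionRing A} (hx : IsIntegral A x) : IsIntegral (D i) (φ i x) :=
  (hx.map (φ i)).tower_top

/-- The map from the integral closure to a branch. -/
def ρ (i : Idx A) : integralClosure A (FractionRing A) →+* R i :=
  ((φ i).toRingHom.comp (integralClosure A (FractionRing A)).val.toRingHom).codRestrict
    (integralClosure (D i) (L i)).toSubring fun x => φ_mem i x.2

theorem coe_ρ (i : Idx A) (x : integralClosure A (FractionRing A)) : ((ρ i x : R i) : L i) = φ i x := rfl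

theorem ρ_algebraMap (i : Idx A) (a : A) :
    ρ i (algebraMap A _ a) = algebraMap (Ah A) (R i) (algebraMap A (Ah A) a) := Subtype.ext (by
  rw [coe_ρ]
  show φ i (algebraMap A (FractionRing A) a) = algebraMap (D i) (L i) (algebraMap (Ah A) (D i) (algebraMap A (Ah A) a))
  rw [(φ i).commutes, ← IsScalarTower.algebraMap_apply A (Ah A) (D i), ← IsScalarTower.algebraMap_apply A (D i) (L i)])

/-- Primes of the integral closure over a prime lift to any prime of the completion over it. -/
theorem exists_lift (q : Ideal (Ah A)) [q.IsPrime] (Q : Ideal (integralClosure A (FractionRing A))) [Q.IsPrime]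
    (h : Q.comap (algebraMap A _) = q.comap (algebraMap A (Ah A))) :
    ∃ (i : Idx A) (P : Ideal (R i)), P.IsPrime ∧ P.comap (algebraMap (Ah A) (R i)) = q ∧ P.comap (ρ i) = Q := by
  classical
  let B := integralClosure A (FractionRing A)
  obtain ⟨z, hz1, hz2⟩ := exists_prime_both (A₀ := A) (⟨q, ‹_›⟩ : PrimeSpectrum (Ah A)) (⟨Q, ‹_›⟩ : PrimeSpectrum B)
    (PrimeSpectrum.ext h.symm)
  have := Fintype.ofFinite (Idx A)
  let θ' : ∀ i : Idx A, Ah A ⊗[A] B →ₐ[Ah A] R i := fun i => Algebra.TensorProduct.lift (Algebra.ofId _ _)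
    (AlgHom.mk (ρ i) (fun a => by rw [IsScalarTower.algebraMap_apply A (Ah A) (R i)]; exact ρ_algebraMap i a))
    fun _ _ => Commute.all _ _
  have hθ : ∀ i w, θ B i w = (θ' i w : L i) := fun i w => by
    induction w using TensorProduct.induction_on with
    | zero => rw [map_zero, map_zero]; rfl
    | add a b ha hb => rw [map_add, map_add, ha, hb]; rfl
    | tmul w x =>
      rw [θ_tmul]
      simp only [θ', Algebra.TensorProduct.lift_tmul, Algebra.ofId_apply]
      rfl
  obtain ⟨i, -, hi⟩ : ∃ i ∈ (Finset.univ : Finset (Idx A)), RingHom.ker (θ' i) ≤ z.asIdeal := by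
    refine (Ideal.IsPrime.inf_le' z.2).1 fun w hw => ?_
    simp only [Finset.inf_eq_iInf, Submodule.mem_iInf, Finset.mem_univ, forall_const, RingHom.mem_ker] at hw
    obtain ⟨n, hn⟩ := isNilpotent_of_θ B w fun i => by rw [hθ, hw i]; rfl
    exact z.2.mem_of_pow_mem n (by rw [hn]; exact zero_mem _)
  let _ : Algebra (Ah A ⊗[A] B) (R i) := (θ' i).toRingHom.toAlgebra
  have : IsScalarTower (Ah A) (Ah A ⊗[A] B) (R i) := IsScalarTower.of_algebraMap_eq fun w => ((θ' i).commutes w).symm
  have : Algebra.IsIntegral (Ah A ⊗[A] B) (R i) := ⟨fun r => (Algebra.IsIntegral.isIntegral (R := Ah A) r).tower_top⟩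
  obtain ⟨P, -, hP, hPz⟩ := Ideal.exists_ideal_over_prime_of_isIntegral z.asIdeal (⊥ : Ideal (R i))
    (fun w hw => hi hw)
  refine ⟨i, P, hP, ?_, ?_⟩
  · have e1 := congrArg PrimeSpectrum.asIdeal hz1
    simp only [PrimeSpectrum.comap_asIdeal, ← hPz, Ideal.comap_comap] at e1
    rwa [← IsScalarTower.algebraMap_eq (Ah A) (Ah A ⊗[A] B) (R i)] at e1
  · have e2 := congrArg PrimeSpectrum.asIdeal hz2
    simp only [PrimeSpectrum.comap_asIdeal, ← hPz, Ideal.comap_comap] at e2
    rw [← e2]
    congr 1
    refine RingHom.ext fun x => ?_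
    show ρ i x = θ' i (1 ⊗ₜ x)
    simp [θ', Algebra.ofId_apply]

end MoriLib
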